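import Groth.Agent.Approx60.NagataCurves
import Groth.Agent.EGA4H10.GlobalNagata
import Mathlib.RingTheory.EssentialFiniteness
import Mathlib.AlgebraicGeometry.ValuativeCriterion
import Mathlib.AlgebraicGeometry.FunctionField

/-! The valuative criteria over excellent bases need only discrete valuation rings essentially of
finite type over the base. -/

set_option autoImplicit false
set_option backward.isDefEq.respectTransparency.types false

universe u

open CategoryTheory CategoryTheory.Limits AlgebraicGeometry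

namespace Groth.Agent.DvrExc56

/-- The stalk of a scheme of finite type over `S` is essentially of finite type over an affine open of `S`. -/
theorem exists_essFiniteType {S C : Scheme.{u}} (r : C ⟶ S) [LocallyOfFiniteType r] (c : C) :
    ∃ (U : S.affineOpens) (φ : Γ(S, U.1) ⟶ C.presheaf.stalk c),
      Spec.map φ ≫ U.2.fromSpec = C.fromSpecStalk c ≫ r ∧ φ.hom.EssFiniteType := by
  obtain ⟨_, ⟨(U : S.Opens), (hU : IsAffineOpen U), rfl⟩, (hcU : r c ∈ U), -⟩ :=
    S.isBasis_affineOpens.exists_subset_of_mem_open (Set.mem_univ (r c)) isOpen_univ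
  obtain ⟨_, ⟨(V : C.Opens), (hV : IsAffineOpen V), rfl⟩, (hcV : c ∈ V), (hVU : (V : Set C) ⊆ r ⁻¹ᵁ U)⟩ :=
    C.isBasis_affineOpens.exists_subset_of_mem_open (show c ∈ r ⁻¹ᵁ U from hcU) (r ⁻¹ᵁ U).isOpen
  refine ⟨⟨U, hU⟩, r.appLE U V hVU ≫ C.presheaf.germ V c hcV, ?_, ?_⟩
  · rw [Spec.map_comp, Category.assoc, IsAffineOpen.SpecMap_appLE_fromSpec r hU hV hVU, ← Category.assoc,
      ← hV.fromSpecStalk_eq_fromSpecStalk hcV]
    rfl
  · letI : Algebra Γ(C, V) (C.presheaf.stalk c) := (C.presheaf.germ V c hcV).hom.toAlgebra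
    have : IsLocalization.AtPrime (C.presheaf.stalk c) (hV.primeIdealOf ⟨c, hcV⟩).asIdeal :=
      hV.isLocalization_stalk ⟨c, hcV⟩
    have h1 : (C.presheaf.germ V c hcV).hom.EssFiniteType :=
      (RingHom.essFiniteType_algebraMap).2
        (Algebra.EssFiniteType.of_isLocalization (C.presheaf.stalk c) (hV.primeIdealOf ⟨c, hcV⟩).asIdeal.primeCompl)
    exact RingHom.EssFiniteType.comp (r.finiteType_appLE hU hV hVU).essFiniteType h1

/-- Applying the restricted hypothesis to one square. -/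
theorem lift_of_hyp {S X Y : Scheme.{u}} (f : X ⟶ Y) (g : Y ⟶ S) {P : ∀ sq : ValuativeCommSq f, Prop}
    (h : ∀ sq : ValuativeCommSq f, IsDiscreteValuationRing sq.R →
      (∃ (U : S.affineOpens) (φ : Γ(S, U.1) ⟶ CommRingCat.of sq.R),
        Spec.map φ ≫ U.2.fromSpec = sq.i₂ ≫ g ∧ φ.hom.EssFiniteType) → P sq)
    (R : Type u) [CommRing R] [IsDomain R] [IsDiscreteValuationRing R]
    (i₁ : Spec (CommRingCat.of (FractionRing R)) ⟶ X) (i₂ : Spec (CommRingCat.of R) ⟶ Y)
    (w : i₁ ≫ f = Spec.map (CommRingCat.ofHom (algebraMap R (FractionRing R))) ≫ i₂)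
    (U : S.affineOpens) (φ : Γ(S, U.1) ⟶ CommRingCat.of R)
    (hφ : Spec.map φ ≫ U.2.fromSpec = i₂ ≫ g) (hφ' : φ.hom.EssFiniteType) :
    ∃ sq : ValuativeCommSq f, ∃ (e : sq.R = R) (e' : sq.K = FractionRing R), P sq ∧
      (∀ (_ : P sq → sq.commSq.HasLift), ∃ l : Spec (CommRingCat.of R) ⟶ X, l ≫ f = i₂ ∧
        Spec.map (CommRingCat.ofHom (algebraMap R (FractionRing R))) ≫ l = i₁) ∧
      (∀ (_ : P sq → Subsingleton sq.commSq.LiftStruct) (l l' : Spec (CommRingCat.of R) ⟶ X),
        l ≫ f = i₂ → Spec.map (CommRingCat.ofHom (algebraMap R (FractionRing R))) ≫ l = i₁ →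
        l' ≫ f = i₂ → Spec.map (CommRingCat.ofHom (algebraMap R (FractionRing R))) ≫ l' = i₁ → l = l') := by
  let sq : ValuativeCommSq f :=
    { R := R, K := FractionRing R, i₁ := i₁, i₂ := i₂, commSq := ⟨w⟩ }
  have hP : P sq := h sq ‹_› ⟨U, φ, hφ, hφ'⟩
  refine ⟨sq, rfl, rfl, hP, fun h' => ?_, fun h' l l' hl hlk hl' hlk' => ?_⟩
  · have := h' hP
    exact ⟨sq.commSq.lift, sq.commSq.fac_right, sq.commSq.fac_left⟩
  · have := h' hP
    exact congrArg (fun s : sq.commSq.LiftStruct => s.l) (Subsingleton.elim ⟨l, hlk, hl⟩ ⟨l', hlk', hl'⟩)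

section

variable (S : Scheme.{u}) (hS : ∀ U : S.affineOpens, EGA4.IsExcellent Γ(S, U.1))
  {X Y : Scheme.{u}} (f : X ⟶ Y) (g : Y ⟶ S)

include hS

theorem isNagata (U : S.affineOpens) : CAlg.IsNagata Γ(S, U.1) :=
  EGA4H10.isNagata_of_quasiExcellent _ ⟨(hS U).1, (hS U).2.2.1, (hS U).2.2.2⟩

variable [QuasiCompact f] [LocallyOfFiniteType f] [LocallyOfFiniteType g]

theorem universallyClosed_of_restricted
    (h : ∀ sq : ValuativeCommSq f, IsDiscreteValuationRing sq.R →
      (∃ (U : S.affineOpens) (φ : Γ(S, U.1) ⟶ CommRingCat.of sq.R),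
        Spec.map φ ≫ U.2.fromSpec = sq.i₂ ≫ g ∧ φ.hom.EssFiniteType) →
      sq.commSq.HasLift) :
    UniversallyClosed f := by
  have := Approx60.NagCurve.isLocallyNoetherian_of_nagata (isNagata S hS)
  refine Approx60.NagCurve.universallyClosed_of_curves S (isNagata S hS) g f
    fun C r _ _ _ hn c hc hd U hU u g' hg hu k hk => ?_
  have : IsDomain (C.presheaf.stalk c) := by infer_instance
  have hdvr := Approx60.NagCurve.isDiscreteValuationRing_stalk r c (hn c) hd
  obtain ⟨V, φ, hφ, hφ'⟩ := exists_essFiniteType r c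
  obtain ⟨sq, _, _, hP, h1, -⟩ := lift_of_hyp f g h (C.presheaf.stalk c) (k ≫ u) (C.fromSpecStalk c ≫ g')
    (by rw [Category.assoc, hu, ← Category.assoc k, hk, Category.assoc])
    V φ (hφ.trans (by rw [← hg]; exact (Category.assoc _ _ _).symm)) hφ'
  exact h1 fun h => h

theorem isSeparated_of_restricted
    (h : ∀ sq : ValuativeCommSq f, IsDiscreteValuationRing sq.R →
      (∃ (U : S.affineOpens) (φ : Γ(S, U.1) ⟶ CommRingCat.of sq.R),
        Spec.map φ ≫ U.2.fromSpec = sq.i₂ ≫ g ∧ φ.hom.EssFiniteType) →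
      Subsingleton sq.commSq.LiftStruct) :
    IsSeparated f := by
  have := Approx60.NagCurve.isLocallyNoetherian_of_nagata (isNagata S hS)
  refine Approx60.NagCurve.isSeparated_of_curves S (isNagata S hS) g f
    fun C r _ _ _ hn c hc hd U hU u g' hg hu k hk l l' hl hlk hl' hlk' => ?_
  have : IsDomain (C.presheaf.stalk c) := by infer_instance
  have hdvr := Approx60.NagCurve.isDiscreteValuationRing_stalk r c (hn c) hd
  obtain ⟨V, φ, hφ, hφ'⟩ := exists_essFiniteType r c
  obtain ⟨sq, _, _, hP, -, h2⟩ := lift_of_hyp f g h (C.presheaf.stalk c) (k ≫ u) (C.fromSpecStalk c ≫ g')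
    (by rw [Category.assoc, hu, ← Category.assoc k, hk, Category.assoc])
    V φ (hφ.trans (by rw [← hg]; exact (Category.assoc _ _ _).symm)) hφ'
  exact h2 (fun h => h) l l' hl hlk hl' hlk'

end

end Groth.Agent.DvrExc56
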